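import Groth.Agent.Krr.H490.PBChart
import Groth.Prelude.Def_KRR

/-!
# Existence of projective bundles

* `isProjBundle_iff`: `(P, O1, q)` is a projective bundle of `E` iff the kernel of `q` is a universal
  invertible quotient;
* `exists_isProjBundle`: existence for `E` finite locally free of constant rank; the projective bundle is
  covered by affine spaces over open subschemes of `X`.
-/

set_option autoImplicit false
set_option backward.isDefEq.respectTransparency false

universe u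

open CategoryTheory CategoryTheory.Limits AlgebraicGeometry Opposite TopologicalSpace

namespace Groth.Agent.Krr.H490.PBExist

open Groth.Agent.Sga67.Sec Groth.Agent.Sga67.LocBasis
open Groth.Agent.Krr.H490.NrmSub Groth.Agent.Krr.H490.NrmSub2 Groth.Agent.Krr.H490.PBFun
open Groth.Agent.Krr.H490.PBChart
open Groth.Agent.Fga.SubobjSec Groth.Agent.Fga.QuotPull
open Groth.Agent.Fga.SubPull (subPull pq cong CompatIso)
open Groth.Agent.Picfga.OverRep
open Groth.Agent.Fdesc.LocGen (IsGen)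

variable {X : Scheme.{u}} {E : X.Modules} {r : ℕ}

variable (E r) in
/-- The index type of the charts. -/
abbrev ChIdx : Type u := (Σ U : X.Opens, {b : Fin r → Sec E U // IsLocBasis b}) × Fin r

/-- A chart map from normalised coordinates. -/
lemma exists_chart_of_isNrm {U : X.Opens} {b : Fin r → Sec E U} (hb : IsLocBasis b) {T : Over X}
    (x : IQSet E T) {W : T.left.Opens} {hW : W ≤ T.hom ⁻¹ᵁ U} {i : Fin r}
    {a : Fin r → Γ(T.left, W)} (h : IsNrm b x.1 hW i a) :
    ∃ k : Over.mk (W.ι ≫ T.hom) ⟶ CO U i, (IQ E).map k.op (ξ hb i) = (IQ E).map (res T W).op x := by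
  have hT : ⊤ ≤ (Over.mk (W.ι ≫ T.hom)).hom ⁻¹ᵁ U := by
    intro t _
    exact hW t.2
  have e : (⊤ : (W : Scheme.{u}).Opens) ≤ (Picfga.OverRep.res T W).left ⁻¹ᵁ W := by
    intro t _
    exact t.2
  have h1 := h.pull (Picfga.OverRep.res T W) (W' := ⊤) hT e
  obtain ⟨k, hk⟩ := exists_hom_chart hb hT i _ (coord_self h1)
  exact ⟨k, Subtype.ext (eq_of_isNrm_top hb hk h1)⟩

/-- The charts of the functor of invertible quotients. -/
noncomputable def charts (hE : FlatMod.IsFinLocFreeOfRank r E) : Charts (IQ E) where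
  ι := ChIdx E r
  X p := CO p.1.1 p.2
  ξ p := ξ p.1.2.2 p.2
  mono p T a b h := hom_chart_ext p.1.2.2 a b (congrArg Subtype.val h)
  isOpen p T x T' g h hh t := by
    have h1 := isNrm_pull_ξ p.1.2.2 h
    have e : pullK E h (ξ p.1.2.2 p.2).1 = pullK E g (x : IQSet E T).1 := congrArg Subtype.val hh
    rw [e] at h1
    obtain ⟨W, hW, a, htW, ha⟩ := exists_isNrm_of_pull (x : IQSet E T).2 g h1 t trivial
    obtain ⟨k, hk⟩ := exists_chart_of_isNrm p.1.2.2 x ha
    exact ⟨W, k, htW, hk⟩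
  covers T x t := by
    obtain ⟨U, htU, e⟩ := hE (T.hom t)
    obtain ⟨b, hb⟩ := nonempty_restrict_iso_iff.1 e
    obtain ⟨W, hW, i, a, htW, ha⟩ := exists_isNrm_near hb (x : IQSet E T).2 t htU
    obtain ⟨k, hk⟩ := exists_chart_of_isNrm hb x ha
    exact ⟨(⟨U, b, hb⟩, i), W, k, htW, hk⟩

/-- A universal invertible quotient. -/
def IsUniv (H : Over X) (Z : IQSet E H) : Prop :=
  ∀ (T : Over X) (x : IQSet E T), ∃! g : T ⟶ H, pullIQ E g Z = x

lemma isUniv_iff (H : Over X) (Z : IQSet E H) : IsUniv H Z ↔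
    ∀ (T : Over X) (x : (IQ E).obj (op T)), ∃! g : T ⟶ H, (IQ E).map g.op Z = x := Iff.rfl

/-- Existence of the universal invertible quotient, covered by affine spaces over opens of `X`. -/
theorem exists_isUniv (hE : FlatMod.IsFinLocFreeOfRank r E) :
    ∃ (H : Over X) (Z : IQSet E H) (j : ∀ p : ChIdx E r, CO p.1.1 p.2 ⟶ H),
      IsUniv H Z ∧ (∀ p, IsOpenImmersion (j p).left) ∧ (∀ p, pullIQ E (j p) Z = ξ p.1.2.2 p.2) ∧
      ∀ h : H.left, ∃ (p : ChIdx E r) (y : (CO p.1.1 p.2).left), (j p).left y = h :=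
  (charts hE).exists_universal' (isZarSheaf_IQ E)

lemma eti_inv {T T' : Over X} (g : T' ⟶ T) : (eti E g).inv =
    (Scheme.Modules.pullbackCongr (Over.w g)).inv.app E ≫
      (Scheme.Modules.pullbackComp g.left T.hom).inv.app E := by
  rw [eti, tri_def]
  rfl

/-- The element of `IQ` attached to an invertible quotient. -/
noncomputable def mkIQ {T : Over X} {L : T.left.Modules} (hL : FlatMod.IsFinLocFreeOfRank 1 L)
    (s : ET E T ⟶ L) [Epi s] : IQSet E T :=
  ⟨kernelSubobject s, by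
    obtain ⟨e, -⟩ := exists_cokernel_iso s
    exact isInvertible_of_iso e.symm (Ega2.QCohLocal.isFinLocFreeOfRank_one_iff.1 hL)⟩

lemma pullIQ_mkIQ_eq_iff {T T' : Over X} {L : T.left.Modules} (hL : FlatMod.IsFinLocFreeOfRank 1 L)
    (s : ET E T ⟶ L) [Epi s] {L' : T'.left.Modules} (hL' : FlatMod.IsFinLocFreeOfRank 1 L')
    (s' : ET E T' ⟶ L') [Epi s'] (g : T' ⟶ T) :
    pullIQ E g (mkIQ hL s) = mkIQ hL' s' ↔
      ∃ e : (Scheme.Modules.pullback g.left).obj L ≅ L',
        (Scheme.Modules.pullbackCongr (Over.w g)).inv.app E ≫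
          (Scheme.Modules.pullbackComp g.left T.hom).inv.app E ≫
            (Scheme.Modules.pullback g.left).map s ≫ e.hom = s' := by
  have h1 : (pullIQ E g (mkIQ hL s)).1 = kernelSubobject (pq g.left (eti E g) s) :=
    Groth.Agent.Fga.SubPull.subPull_kernel _ _ s
  rw [Subtype.ext_iff, h1]
  change _ = kernelSubobject s' ↔ _
  have h2 : pq g.left (eti E g) s = (Scheme.Modules.pullbackCongr (Over.w g)).inv.app E ≫
      (Scheme.Modules.pullbackComp g.left T.hom).inv.app E ≫
        (Scheme.Modules.pullback g.left).map s := by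
    rw [pq, eti_inv, Category.assoc]
  constructor
  · intro h
    obtain ⟨e, he⟩ := exists_iso_of_kernelSubobject_eq _ _ h
    refine ⟨e, ?_⟩
    rw [h2] at he
    simpa using he
  · rintro ⟨e, he⟩
    refine kernelSubobject_eq_of_iso _ _ e ?_
    rw [h2]
    simpa using he

/-- Projective bundles are universal invertible quotients. -/
theorem isProjBundle_iff {P : Scheme.{u}} (π : P ⟶ X) (O1 : P.Modules)
    (q : (Scheme.Modules.pullback π).obj E ⟶ O1) (h1 : FlatMod.IsFinLocFreeOfRank 1 O1) [Epi q] :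
    KRR.IsProjBundle π E O1 q ↔ IsUniv (Over.mk π) (mkIQ (T := Over.mk π) h1 q) := by
  constructor
  · intro H T x
    have hx : FlatMod.IsFinLocFreeOfRank 1 (cokernel x.1.arrow) :=
      Ega2.QCohLocal.isFinLocFreeOfRank_one_iff.2 x.2
    have ex : x = mkIQ hx (cokernel.π x.1.arrow) := Subtype.ext (kernelSubobject_cokernel x.1).symm
    obtain ⟨h, ⟨hg, e, he⟩, hu⟩ := H.univ T.left T.hom _ hx (cokernel.π x.1.arrow) inferInstance
    refine ⟨Over.homMk h hg, ?_, ?_⟩
    · change pullIQ E _ _ = x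
      rw [ex, pullIQ_mkIQ_eq_iff]
      exact ⟨e, he⟩
    · intro g hg'
      change pullIQ E _ _ = x at hg'
      rw [ex, pullIQ_mkIQ_eq_iff] at hg'
      obtain ⟨e', he'⟩ := hg'
      ext1
      exact hu g.left ⟨Over.w g, e', he'⟩
  · intro H
    refine ⟨h1, inferInstance, ?_⟩
    intro T g L hL s hs
    obtain ⟨k, hk, hu⟩ := H (Over.mk g) (mkIQ (T := Over.mk g) hL s)
    change pullIQ E _ _ = _ at hk
    rw [pullIQ_mkIQ_eq_iff] at hk
    obtain ⟨e, he⟩ := hk
    refine ⟨k.left, ⟨Over.w k, e, he⟩, ?_⟩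
    rintro k' ⟨hk', e', he'⟩
    have := hu (Over.homMk k' hk') (by
      change pullIQ E _ _ = _
      rw [pullIQ_mkIQ_eq_iff]
      exact ⟨e', he'⟩)
    exact congrArg (fun f : Over.mk g ⟶ Over.mk π => f.left) this

/-- **Existence of projective bundles.** -/
theorem exists_isProjBundle (hE : FlatMod.IsFinLocFreeOfRank r E) :
    ∃ (P : Scheme.{u}) (π : P ⟶ X) (O1 : P.Modules) (q : (Scheme.Modules.pullback π).obj E ⟶ O1),
      KRR.IsProjBundle π E O1 q := by
  obtain ⟨H, Z, -, hZ, -⟩ := exists_isUniv hE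
  have hZ1 : FlatMod.IsFinLocFreeOfRank 1 (cokernel Z.1.arrow) :=
      Ega2.QCohLocal.isFinLocFreeOfRank_one_iff.2 Z.2
  refine ⟨H.left, H.hom, cokernel Z.1.arrow, cokernel.π Z.1.arrow, ?_⟩
  rw [isProjBundle_iff _ _ _ hZ1]
  have e : mkIQ (T := Over.mk H.hom) hZ1 (cokernel.π Z.1.arrow) = Z :=
    Subtype.ext (kernelSubobject_cokernel Z.1)
  rw [e]
  exact hZ

end Groth.Agent.Krr.H490.PBExist
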