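import Groth.Agent.Books.Lambda1
import Mathlib.RingTheory.Nilpotent.Basic
import Mathlib.RingTheory.PowerSeries.Basic
import Mathlib.Tactic.LinearCombination

/-!
# Line elements of a lambda-ring: nilpotence of `w - 1`

If a line element `w` and a positive element `e` satisfy `w + e = m` with `m` a natural number, then
`(1 + w t) λ_t(e) = (1 + t)^m` is an identity of polynomials; evaluating at `t = -w⁻¹` gives
`(w - 1)^m = 0`.
-/

set_option autoImplicit false
universe u

open PowerSeries Finset LambdaRing

namespace Groth.Agent.Krr.H490.NilpLine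

variable {K : Type u} [CommRing K] [LambdaOps K]

/-- `λ_t(e)` as a polynomial, for `e` positive. -/
noncomputable def lamPoly (P : PosStructure K) (e : K) : Polynomial K :=
  ∑ i ∈ range ((P.aug e).toNat + 1), Polynomial.C (LambdaOps.lam i e) * Polynomial.X ^ i

lemma coeff_lamPoly (P : PosStructure K) (e : K) (n : ℕ) :
    (lamPoly P e).coeff n = if n < (P.aug e).toNat + 1 then LambdaOps.lam n e else 0 := by
  rw [lamPoly, Polynomial.finsetSum_coeff]
  simp only [Polynomial.coeff_C_mul, Polynomial.coeff_X_pow]
  split_ifs with h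
  · rw [Finset.sum_eq_single n]
    · simp
    · intro b _ hb
      rw [if_neg (fun h => hb h.symm), mul_zero]
    · intro hn
      exact absurd (Finset.mem_range.mpr h) hn
  · apply Finset.sum_eq_zero
    intro b hb
    rw [if_neg, mul_zero]
    rintro rfl
    exact h (Finset.mem_range.mp hb)

lemma coe_lamPoly (P : PosStructure K) (e : K) (he : e ∈ P.pos) :
    ((lamPoly P e : Polynomial K) : PowerSeries K) = lamSeries e := by
  ext n
  rw [Polynomial.coeff_coe, coeff_lamPoly, Books.Lambda1.coeff_lamSeries]
  split_ifs with h
  · rfl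
  · rw [P.lam_eq_zero e he]
    have := P.aug_pos e he
    omega

lemma lamSeries_natCast (P : PosStructure K) (m : ℕ) :
    lamSeries (m : K) = (1 + X) ^ m := by
  induction m with
  | zero => simp [Books.Lambda1.lamSeries_zero]
  | succ m ih =>
    rw [Nat.cast_succ, Books.Lambda1.lamSeries_add, ih,
      Books.Lambda1.lamSeries_line P 1 (Books.Lambda1.isLine_one P), pow_succ]
    simp

lemma isUnit_of_isLine (P : PosStructure K) {w : K} (hw : P.IsLine w) : IsUnit w := by
  have h := P.isUnit_lam w hw.1
  rw [hw.2] at h
  simpa [LambdaOps.lam_one] using h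

/-- If `w + e = m` with `w` a line element, `e` positive and `m` natural, then `(w - 1)^m = 0`. -/
lemma sub_one_pow_eq_zero (P : PosStructure K) {w e : K} {m : ℕ} (hw : P.IsLine w)
    (he : e ∈ P.pos) (h : w + e = m) : (w - 1) ^ m = 0 := by
  have h1 : lamSeries w * lamSeries e = (1 + X : PowerSeries K) ^ m := by
    rw [← Books.Lambda1.lamSeries_add, h, lamSeries_natCast P]
  have h2 : ((1 + Polynomial.C w * Polynomial.X) * lamPoly P e : Polynomial K) =
      (1 + Polynomial.X) ^ m := by
    apply Polynomial.coe_injective
    rw [Polynomial.coe_mul, coe_lamPoly P e he, Polynomial.coe_pow, Polynomial.coe_add,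
      Polynomial.coe_add, Polynomial.coe_mul, Polynomial.coe_C, Polynomial.coe_X,
      Polynomial.coe_one, ← Books.Lambda1.lamSeries_line P w hw, h1]
  obtain ⟨v, hv⟩ := (isUnit_of_isLine P hw).exists_right_inv
  have h3 := congrArg (Polynomial.eval (-v)) h2
  rw [Polynomial.eval_mul, Polynomial.eval_pow] at h3
  simp only [Polynomial.eval_add, Polynomial.eval_one, Polynomial.eval_mul, Polynomial.eval_C,
    Polynomial.eval_X] at h3
  have h4 : (1 + w * -v) = 0 := by linear_combination -hv
  rw [h4, zero_mul] at h3
  have h5 : w - 1 = w * (1 + -v) := by linear_combination hv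
  rw [h5, mul_pow, ← h3, mul_zero]

/-- If some `u ^ n * (-w)` is a positive element minus a natural number, with `u`, `w` lines, then
`u ^ n * w - 1` is nilpotent. -/
lemma isNilpotent_of_neg (P : PosStructure K) {w e : K} {m : ℕ} (hw : P.IsLine w)
    (he : e ∈ P.pos) (h : -w = e - m) : IsNilpotent (w - 1) :=
  ⟨m, sub_one_pow_eq_zero P hw he (by linear_combination -h)⟩

end Groth.Agent.Krr.H490.NilpLine
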