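import Groth.Agent.Sga67.LocBasisStalk
import Groth.Agent.Fdesc.PullbackStalk
import Groth.Agent.Fga.SecComp
import Mathlib.RingTheory.TensorProduct.Free

/-!
# Local bases pull back to local bases

For `g : Y ⟶ X`, `M : X.Modules` and a local basis `b` of `M` over `U`, the pulled back sections
`sec g M e (b i)` form a local basis of `g^* M` over every open `V ≤ g ⁻¹ U`.
-/

set_option autoImplicit false
universe u

open CategoryTheory CategoryTheory.Limits AlgebraicGeometry Opposite TopologicalSpace
open scoped TensorProduct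

namespace Groth.Agent.Krr.H490.LocBasisPull

open Groth.Agent.Sga67.Sec Groth.Agent.Sga67.LocBasis Groth.Agent.Sga67.LocBasisStalk

variable {X Y : Scheme.{u}}

section Stalk

variable {M : X.Modules} {U : X.Opens} {κ : Type*} [Fintype κ] {b : κ → Sec M U}

/-- the germs of a local basis are linearly independent -/
theorem ger_injective (hb : IsLocBasis b) (x : X) (hx : x ∈ U) (a : κ → X.presheaf.stalk x)
    (h : ∑ k, a k • ger M x hx (b k) = 0) : ∀ k, a k = 0 := by
  obtain ⟨W, hW, hxW, a', ha'⟩ := exists_gerO_family x a U hx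
  have h1 : ger M x hxW (comb b hW a') = ger M x hxW 0 := by
    rw [ger_comb, ger_zero, ← h]
    simp only [ha']
  obtain ⟨V, hV, hxV, e⟩ := exists_res_eq M x hxW _ _ h1
  rw [res_comb, map_zero] at e
  have h2 := (hb V (hV.trans hW)).1 (e.trans (map_zero _).symm)
  intro k
  have h3 := congrFun h2 k
  rw [← ha' k, ← gerO_res hV x hxV, show resO X hV (a' k) = 0 from h3]
  exact map_zero _

/-- the germs of a local basis generate the stalk -/
theorem ger_surjective (hb : IsLocBasis b) (x : X) (hx : x ∈ U) (t : M.presheaf.stalk x) :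
    ∃ a : κ → X.presheaf.stalk x, ∑ k, a k • ger M x hx (b k) = t := by
  obtain ⟨W, hxW, s, rfl⟩ := exists_ger M x t
  obtain ⟨a, ha⟩ := (hb (W ⊓ U) inf_le_right).2 (res M inf_le_left s)
  have hx' : x ∈ W ⊓ U := ⟨hxW, hx⟩
  refine ⟨fun k => gerO x hx' (a k), ?_⟩
  rw [← ger_comb b inf_le_right a x hx', ha, ger_res]

/-- The basis of the stalk given by a local basis. -/
noncomputable def stalkBasis (hb : IsLocBasis b) (x : X) (hx : x ∈ U) :
    Module.Basis κ (X.presheaf.stalk x) (M.presheaf.stalk x) :=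
  Module.Basis.mk (v := fun k => ger M x hx (b k))
    (Fintype.linearIndependent_iff.2 fun a h => ger_injective hb x hx a h)
    (fun t _ => by
      obtain ⟨a, rfl⟩ := ger_surjective hb x hx t
      exact Submodule.sum_mem _ fun k _ => Submodule.smul_mem _ _ (Submodule.subset_span ⟨k, rfl⟩))

@[simp]
theorem stalkBasis_apply (hb : IsLocBasis b) (x : X) (hx : x ∈ U) (k : κ) :
    stalkBasis hb x hx k = ger M x hx (b k) := by
  simp [stalkBasis]

end Stalk

/-- Pull-back of a section, with values in `Sec`. -/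
noncomputable def psec (g : Y ⟶ X) (M : X.Modules) {U : X.Opens} {V : Y.Opens} (e : V ≤ g ⁻¹ᵁ U)
    (s : Sec M U) : Sec ((Scheme.Modules.pullback g).obj M) V := VarietyB.PullSec.sec g M e s

theorem ger_psec (g : Y ⟶ X) (M : X.Modules) {U : X.Opens} {V : Y.Opens} (e : V ≤ g ⁻¹ᵁ U)
    (y : Y) (hy : y ∈ V) (s : Sec M U) :
    ger _ y hy (psec g M e s) = Fdesc.PullbackStalk.canAdd g M y (ger M (g y) (e hy) s) :=
  VarietyB.PullSec.germ_sec g M e y hy s

/-- The pull-back of a local basis is a local basis. -/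
theorem isLocBasis_psec (g : Y ⟶ X) (M : X.Modules) {U : X.Opens} {V : Y.Opens} (e : V ≤ g ⁻¹ᵁ U)
    {κ : Type*} [Fintype κ] {b : κ → Sec M U} (hb : IsLocBasis b) :
    IsLocBasis (fun k => psec g M e (b k)) := by
  have key : ∀ (y : Y) (hy : y ∈ V), ∃ β : Module.Basis κ (Y.presheaf.stalk y)
      (((Scheme.Modules.pullback g).obj M).presheaf.stalk y),
      ∀ k, β k = ger _ y hy (psec g M e (b k)) := by
    intro y hy
    let := Fdesc.PullbackStalk.stalkAlg g y
    refine ⟨((stalkBasis hb (g y) (e hy)).baseChange (Y.presheaf.stalk y)).map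
      (Fdesc.PullbackStalk.stalkPullbackEquiv g M y), fun k => ?_⟩
    rw [Module.Basis.map_apply, Module.Basis.baseChange_apply, stalkBasis_apply, ger_psec]
    refine (Fdesc.PullbackStalk.stalkPullbackEquiv_tmul g M y _ _).trans ?_
    exact one_smul _ _
  refine isLocBasis_of_stalks _ ?_ ?_
  · intro y hy a h
    obtain ⟨β, hβ⟩ := key y hy
    simp only [← hβ] at h
    exact Fintype.linearIndependent_iff.1 β.linearIndependent a h
  · intro y hy t
    obtain ⟨β, hβ⟩ := key y hy
    refine ⟨fun k => β.repr t k, ?_⟩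
    simp only [← hβ]
    exact β.sum_repr t

end Groth.Agent.Krr.H490.LocBasisPull
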