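import Groth.Agent.Krr.H490.LocBasisPull
import Groth.Agent.Fga.QuotPull
import Groth.Agent.Fdesc.LocGenPullback
import Groth.Agent.Picfga.OverRep
import Groth.Agent.PerfB.LimModInv
import Groth.Agent.Ega2.QCohLocal

/-!
# Invertible quotients of a pulled back bundle: normalised coordinates

`E : X.Modules` with a local basis `b` over `U`, `T : Over X`, `K : Subobject (ET E T)`.
`IsNrm b hW K i a` says that over `W` the submodule `K` is the kernel of `β_k ↦ a_k` (with `a_i = 1`), where
`β_k` is the pull-back of `b_k`, and that `β_i` generates the quotient freely.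
-/

set_option autoImplicit false
set_option backward.isDefEq.respectTransparency false

universe u

open CategoryTheory CategoryTheory.Limits AlgebraicGeometry Opposite TopologicalSpace

namespace Groth.Agent.Krr.H490.NrmSub

open Groth.Agent.Sga67.Sec Groth.Agent.Sga67.LocBasis
open Groth.Agent.Krr.H490.LocBasisPull
open Groth.Agent.Fga.SubobjSec Groth.Agent.Fga.QuotPull
open Groth.Agent.Fga.SubPull (subPull pq cong CompatIso)
open Groth.Agent.Fdesc.LocGen (IsGen)

variable {X : Scheme.{u}} (E : X.Modules)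

/-- The pull-back of `E` to `T`. -/
noncomputable abbrev ET (T : Over X) : T.left.Modules := (Scheme.Modules.pullback T.hom).obj E

/-- `g^* E_T ≅ E_{T'}`. -/
noncomputable def eti {T T' : Over X} (g : T' ⟶ T) :
    (Scheme.Modules.pullback g.left).obj (ET E T) ≅ ET E T' :=
  tri g.left T.hom T'.hom (Over.w g) E

lemma eti_hom {T T' : Over X} (g : T' ⟶ T) : (eti E g).hom =
    (Scheme.Modules.pullbackComp g.left T.hom).hom.app E ≫
      (Scheme.Modules.pullbackCongr (Over.w g)).hom.app E := by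
  rw [eti, tri_def]
  rfl

lemma compatIso_eti {T T' T'' : Over X} (h : T'' ⟶ T') (g : T' ⟶ T) :
    CompatIso (rfl : h.left ≫ g.left = (h ≫ g).left) (eti E g) (eti E h) (eti E (h ≫ g)) :=
  tri_comp _ _ _ _ _ _ _ _ _ _ E

/-- pull-back of submodules -/
noncomputable def pullK {T T' : Over X} (g : T' ⟶ T) (K : Subobject (ET E T)) :
    Subobject (ET E T') := subPull g.left (eti E g) K

lemma pullK_comp {T T' T'' : Over X} (h : T'' ⟶ T') (g : T' ⟶ T) (K : Subobject (ET E T)) :
    pullK E (h ≫ g) K = pullK E h (pullK E g K) :=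
  (compatIso_eti E h g).subPull_comp K

@[simp]
lemma pullK_id (T : Over X) (K : Subobject (ET E T)) : pullK E (𝟙 T) K = K := by
  refine subPull_id (a := (𝟙 T : T ⟶ T).left) rfl (eti E (𝟙 T)) ?_ K
  have h : ∀ (a : T.left ⟶ T.left) (ha : a = 𝟙 _) (w : a ≫ T.hom = T.hom),
      (tri a _ _ w E).hom = (cong ha (ET E T)).hom ≫
        (Scheme.Modules.pullbackId _).hom.app (ET E T) := by
    intro a ha w
    subst ha
    rw [tri_id, Groth.Agent.Fga.SubPull.cong_rfl, Category.id_comp]
  exact h _ rfl _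

/-- The quotient by the pulled back submodule is the pullback of the quotient. -/
lemma exists_cokernel_pullK {T T' : Over X} (g : T' ⟶ T) (K : Subobject (ET E T)) :
    ∃ e : cokernel (pullK E g K).arrow ≅
        (Scheme.Modules.pullback g.left).obj (cokernel K.arrow),
      cokernel.π _ ≫ e.hom = pq g.left (eti E g) (cokernel.π K.arrow) :=
  Groth.Agent.Fga.SubPull.exists_cokernel_subPull _ _ K

section Coord

variable {E} {U : X.Opens} {r : ℕ} (b : Fin r → Sec E U)

/-- The pull-back of the sections `b` to `T`. -/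
noncomputable def bT (T : Over X) {W : T.left.Opens} (hW : W ≤ T.hom ⁻¹ᵁ U) (k : Fin r) :
    Sec (ET E T) W := psec T.hom E hW (b k)

lemma res_bT (T : Over X) {W V : T.left.Opens} (hW : W ≤ T.hom ⁻¹ᵁ U) (h : V ≤ W) (k : Fin r) :
    res _ h (bT b T hW k) = bT b T (h.trans hW) k := by
  have := Groth.Agent.Fga.SecComp.res_sec T.hom E hW (h.trans hW) (le_refl U) h (b k)
  refine this.trans ?_
  congr 1
  exact Groth.Agent.Ega1.SubSheaf.res_self E _ (b k)

variable {b} in
lemma isLocBasis_bT (hb : IsLocBasis b) (T : Over X) {W : T.left.Opens} (hW : W ≤ T.hom ⁻¹ᵁ U) :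
    IsLocBasis (bT b T hW) := isLocBasis_psec T.hom E hW hb

/-- The pull-back of `bT` along `g`. -/
lemma psec_bT {T T' : Over X} (g : T' ⟶ T) {W : T.left.Opens} {W' : T'.left.Opens}
    (hW : W ≤ T.hom ⁻¹ᵁ U) (hW' : W' ≤ T'.hom ⁻¹ᵁ U) (e : W' ≤ g.left ⁻¹ᵁ W) (k : Fin r) :
    Groth.Agent.Fga.SubPull.psec g.left (eti E g) e (bT b T hW k) = bT b T' hW' k := by
  rw [Groth.Agent.Fga.SubPull.psec_apply, eti_hom]
  have e'' : W' ≤ (g.left ≫ T.hom) ⁻¹ᵁ U := by rw [Over.w g]; exact hW'
  have h1 := Groth.Agent.Fga.SecComp.sec_comp g.left T.hom E hW e e'' (b k)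
  have h2 := Groth.Agent.Fga.SecComp.sec_congr (Over.w g) E e'' hW' (b k)
  rw [← h1] at h2
  exact h2

end Coord

end Groth.Agent.Krr.H490.NrmSub
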