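import Groth.Agent.Krr.H490.NrmSub

/-!
# Normalised coordinates of invertible quotients (continued)
-/

set_option autoImplicit false
set_option backward.isDefEq.respectTransparency false

universe u

open CategoryTheory CategoryTheory.Limits AlgebraicGeometry Opposite TopologicalSpace

namespace Groth.Agent.Krr.H490.NrmSub2

open Groth.Agent.Sga67.Sec Groth.Agent.Sga67.LocBasis
open Groth.Agent.Krr.H490.LocBasisPull Groth.Agent.Krr.H490.NrmSub
open Groth.Agent.Fga.SubobjSec Groth.Agent.Fga.QuotPull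
open Groth.Agent.Fga.SubPull (subPull pq cong CompatIso)
open Groth.Agent.Fdesc.LocGen (IsGen)

variable {X : Scheme.{u}}

section IsGenLemmas

variable {Y : Scheme.{u}} {M : Y.Modules}

lemma isGen_iff {U : Y.Opens} (e : Sec M U) :
    IsGen (M := M) (U := U) e ↔ ∀ (V : Y.Opens) (h : V ≤ U),
      Function.Bijective (fun a : Γ(Y, V) => a • res M h e) := Iff.rfl

lemma isGen_res {U V : Y.Opens} {e : Sec M U} (he : IsGen (M := M) (U := U) e) (h : V ≤ U) :
    IsGen (M := M) (U := V) (res M h e) := he.res h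

end IsGenLemmas

variable {E : X.Modules} {U : X.Opens} {r : ℕ} (b : Fin r → Sec E U)

/-- the quotient map -/
noncomputable abbrev quo {T : Over X} (K : Subobject (ET E T)) : ET E T ⟶ cokernel K.arrow :=
  cokernel.π K.arrow

lemma mem_iff {Y : Scheme.{u}} {M : Y.Modules} (K : Subobject M) {V : Y.Opens} (s : Sec M V) :
    s ∈ (toSub K).obj V ↔ appS (cokernel.π K.arrow) V s = 0 := by
  conv_lhs => rw [← kernelSubobject_cokernel K]
  exact mem_kernel_iff _

/-- Over `W`, the submodule `K` is the kernel of `β_k ↦ a_k` and `β_i` generates the quotient. -/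
structure IsNrm {T : Over X} (K : Subobject (ET E T)) {W : T.left.Opens} (hW : W ≤ T.hom ⁻¹ᵁ U)
    (i : Fin r) (a : Fin r → Γ(T.left, W)) : Prop where
  eq : ∀ k, appS (quo K) W (bT b T hW k) = a k • appS (quo K) W (bT b T hW i)
  gen : IsGen (M := cokernel K.arrow) (U := W) (appS (quo K) W (bT b T hW i))

variable {b} {T T' : Over X} {K : Subobject (ET E T)} {W : T.left.Opens} {hW : W ≤ T.hom ⁻¹ᵁ U}
  {i : Fin r} {a : Fin r → Γ(T.left, W)}

lemma appS_comb (h : IsNrm b K hW i a) {V : T.left.Opens} (hV : V ≤ W) (c : Fin r → Γ(T.left, V)) :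
    appS (quo K) V (comb (bT b T hW) hV c) =
      (∑ k, c k * resO T.left hV (a k)) • res _ hV (appS (quo K) W (bT b T hW i)) := by
  rw [comb_apply, map_sum, Finset.sum_smul]
  refine Finset.sum_congr rfl fun k _ => ?_
  rw [map_smul, appS_res, h.eq k, res_smul, smul_smul]

lemma comb_mem_iff (h : IsNrm b K hW i a) {V : T.left.Opens} (hV : V ≤ W)
    (c : Fin r → Γ(T.left, V)) :
    comb (bT b T hW) hV c ∈ (toSub K).obj V ↔ ∑ k, c k * resO T.left hV (a k) = 0 := by
  rw [mem_iff, appS_comb h hV]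
  constructor
  · intro h1
    exact (h.gen V hV).1 (h1.trans (zero_smul _ _).symm)
  · intro h1
    rw [h1, zero_smul]

lemma coord_self (h : IsNrm b K hW i a) : a i = 1 := by
  have h1 := h.eq i
  refine (h.gen W le_rfl).1 ?_
  have e : res (cokernel K.arrow) (le_refl W) (appS (quo K) W (bT b T hW i)) =
    appS (quo K) W (bT b T hW i) := res_self _ _ _
  change a i • res (cokernel K.arrow) (le_refl W) _ = (1 : Γ(T.left, W)) • res (cokernel K.arrow) (le_refl W) _
  rw [e, one_smul, ← h1]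

lemma IsNrm.unique (h : IsNrm b K hW i a) {a' : Fin r → Γ(T.left, W)}
    (h' : IsNrm b K hW i a') : a = a' := by
  funext k
  refine (h.gen W le_rfl).1 ?_
  have e : res (cokernel K.arrow) (le_refl W) (appS (quo K) W (bT b T hW i)) =
    appS (quo K) W (bT b T hW i) := res_self _ _ _
  change a k • res (cokernel K.arrow) (le_refl W) _ = a' k • res (cokernel K.arrow) (le_refl W) _
  rw [e, ← h.eq, ← h'.eq]

lemma IsNrm.restrict (h : IsNrm b K hW i a) {V : T.left.Opens} (hV : V ≤ W) :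
    IsNrm b K (hV.trans hW) i (fun k => resO T.left hV (a k)) where
  eq k := by
    rw [← res_bT b T hW hV k, ← res_bT b T hW hV i, appS_res, appS_res, h.eq, res_smul]
  gen := by
    rw [← res_bT b T hW hV i, appS_res]
    exact isGen_res h.gen hV

/-- Existence of normalised coordinates once `β_i` generates the quotient. -/
lemma exists_isNrm (h : IsGen (M := cokernel K.arrow) (U := W) (appS (quo K) W (bT b T hW i))) :
    ∃ a, IsNrm b K hW i a := by
  choose a ha using fun k => h.exists_eq (appS (quo K) W (bT b T hW k))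
  exact ⟨a, ha, h⟩

/-- Two submodules with the same normalised coordinates have the same sections. -/
lemma IsNrm.mem_iff_mem (hb : IsLocBasis b) {K' : Subobject (ET E T)} (h : IsNrm b K hW i a)
    (h' : IsNrm b K' hW i a) {V : T.left.Opens} (hV : V ≤ W) (s : Sec (ET E T) V) :
    s ∈ (toSub K).obj V ↔ s ∈ (toSub K').obj V := by
  obtain ⟨c, rfl⟩ := (isLocBasis_bT hb T hW V hV).2 s
  rw [comb_mem_iff h, comb_mem_iff h']

/-- Two submodules with locally the same normalised coordinates are equal. -/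
lemma eq_of_isNrm (hb : IsLocBasis b) {K' : Subobject (ET E T)}
    (H : ∀ t : T.left, ∃ (W : T.left.Opens) (hW : W ≤ T.hom ⁻¹ᵁ U) (i : Fin r)
      (a : Fin r → Γ(T.left, W)), t ∈ W ∧ IsNrm b K hW i a ∧ IsNrm b K' hW i a) : K = K' := by
  have key : ∀ (K K' : Subobject (ET E T)) (_ : ∀ t : T.left, ∃ (W : T.left.Opens)
      (hW : W ≤ T.hom ⁻¹ᵁ U) (i : Fin r)
      (a : Fin r → Γ(T.left, W)), t ∈ W ∧ IsNrm b K hW i a ∧ IsNrm b K' hW i a)
      (V : T.left.Opens) (s : Γ(ET E T, V)), s ∈ (toSub K).obj V → s ∈ (toSub K').obj V := by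
    intro K K' H V s hs
    refine (toSub K').local_mem s fun t ht => ?_
    obtain ⟨W, hW, i, a, htW, h, h'⟩ := H t
    refine ⟨V ⊓ W, inf_le_left, ⟨ht, htW⟩, ?_⟩
    exact (h.mem_iff_mem hb h' inf_le_right _).1 ((toSub K).map_mem inf_le_left hs)
  exact ext_sub fun V s => ⟨key K K' H V s, key K' K (fun t => by
    obtain ⟨W, hW, i, a, h1, h2, h3⟩ := H t
    exact ⟨W, hW, i, a, h1, h3, h2⟩) V s⟩

lemma eq_of_isNrm_top (hb : IsLocBasis b) {K' : Subobject (ET E T)} {hT : ⊤ ≤ T.hom ⁻¹ᵁ U}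
    {a : Fin r → Γ(T.left, ⊤)} (h : IsNrm b K hT i a) (h' : IsNrm b K' hT i a) : K = K' :=
  eq_of_isNrm hb fun _ => ⟨⊤, hT, i, a, trivial, h, h'⟩

section Pull

/-- the value of the pulled back quotient map on a pulled back section -/
lemma quo_pullK (g : T' ⟶ T) (K : Subobject (ET E T)) {W : T.left.Opens} {W' : T'.left.Opens}
    (hW : W ≤ T.hom ⁻¹ᵁ U) (hW' : W' ≤ T'.hom ⁻¹ᵁ U) (e : W' ≤ g.left ⁻¹ᵁ W) :
    ∃ ε : cokernel (pullK E g K).arrow ≅ (Scheme.Modules.pullback g.left).obj (cokernel K.arrow),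
      ∀ k, appS ε.hom W' (appS (quo (pullK E g K)) W' (bT b T' hW' k)) =
        VarietyB.PullSec.sec g.left (cokernel K.arrow) e (appS (quo K) W (bT b T hW k)) := by
  obtain ⟨ε, hε⟩ := exists_cokernel_pullK E g K
  refine ⟨ε, fun k => ?_⟩
  have h1 : appS ε.hom W' (appS (quo (pullK E g K)) W' (bT b T' hW' k)) =
      appS (pq g.left (eti E g) (cokernel.π K.arrow)) W' (bT b T' hW' k) := by
    rw [← appS_comp, hε]
  rw [h1, ← psec_bT b g hW hW' e k]
  exact Groth.Agent.Fga.SubPull.pq_psec g.left (eti E g) (cokernel.π K.arrow) e (bT b T hW k)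

lemma isGen_sec {Y Y' : Scheme.{u}} (g : Y' ⟶ Y) {M : Y.Modules} {W : Y.Opens} {W' : Y'.Opens}
    (e : W' ≤ g ⁻¹ᵁ W) {s : Sec M W} (hs : IsGen (M := M) (U := W) s) :
    IsGen (M := (Scheme.Modules.pullback g).obj M) (U := W')
      (VarietyB.PullSec.sec g M e s) := by
  have h1 : IsGen (Fdesc.LocGen.pullSec g (M := M) (U := W) s) := Fdesc.LocGen.IsGen.pullSec g hs
  exact h1.res e

/-- Pull-back of normalised coordinates. -/
lemma IsNrm.pull (h : IsNrm b K hW i a) (g : T' ⟶ T) {W' : T'.left.Opens}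
    (hW' : W' ≤ T'.hom ⁻¹ᵁ U) (e : W' ≤ g.left ⁻¹ᵁ W) :
    IsNrm b (pullK E g K) hW' i (fun k => g.left.appLE W W' e (a k)) := by
  obtain ⟨ε, hε⟩ := quo_pullK (b := b) g K hW hW' e
  have hinj : Function.Injective (appS ε.hom W') := fun x y hxy => by
    have := congrArg (appS ε.inv W') hxy
    simpa using this
  refine ⟨fun k => hinj ?_, ?_⟩
  · rw [map_smul, hε, hε, h.eq k]
    exact VarietyB.PullSec.sec_smul g.left _ e (a k) _
  · have h1 := isGen_sec g.left e h.gen
    rw [← hε] at h1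
    exact (Fdesc.LocGen.isGen_app_iff (M := cokernel (pullK E g K).arrow) ε.hom _).1 h1

end Pull

section Points

open Groth.Agent.Fdesc.LocGen in
/-- An invertible module has a generator near each point, inside a given open. -/
lemma exists_gen_near {Y : Scheme.{u}} {L : Y.Modules} (hL : PicF.IsInvertible L) {V : Y.Opens} (y : Y)
    (hy : y ∈ V) : ∃ (W : Y.Opens) (_ : W ≤ V) (e : Sec L W), y ∈ W ∧ IsGen (M := L) (U := W) e := by
  obtain ⟨W, e, hyW, he⟩ := (isInvertible_iff L).1 hL y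
  exact ⟨V ⊓ W, inf_le_left, Fdesc.LocGen.res L inf_le_right e, ⟨hy, hyW⟩, he.res _⟩

lemma isUnit_basicOpen {Y : Scheme.{u}} {W : Y.Opens} (f : Γ(Y, W)) {V : Y.Opens} (h : V ≤ W)
    (h' : V ≤ Y.basicOpen f) : IsUnit (resO Y h f) := by
  have h1 : IsUnit (resO Y (Y.basicOpen_le f) f) := RingedSpace.isUnit_res_basicOpen _ f
  have h2 := h1.map (resO Y h')
  rwa [resO_resO] at h2

lemma mem_basicOpen_of_isUnit {Y : Scheme.{u}} {W V : Y.Opens} (f : Γ(Y, W)) (h : V ≤ W)
    (hu : IsUnit (resO Y h f)) (y : Y) (hy : y ∈ V) : y ∈ Y.basicOpen f := by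
  rw [Scheme.mem_basicOpen _ _ _ (h hy)]
  have := hu.map (Y.presheaf.germ V y hy).hom
  rwa [show (Y.presheaf.germ V y hy).hom (resO Y h f) = Y.presheaf.germ W y (h hy) f from
    TopCat.Presheaf.germ_res_apply Y.presheaf (homOfLE h) y hy f] at this

/-- Near each point some `β_i` generates an invertible quotient. -/
lemma exists_isNrm_near (hb : IsLocBasis b) (hK : PicF.IsInvertible (cokernel K.arrow))
    (t : T.left) (ht : T.hom t ∈ U) : ∃ (W : T.left.Opens) (hW : W ≤ T.hom ⁻¹ᵁ U) (i : Fin r)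
      (a : Fin r → Γ(T.left, W)), t ∈ W ∧ IsNrm b K hW i a := by
  obtain ⟨W₀, hW₀, e, htW₀, he⟩ := exists_gen_near hK (V := T.hom ⁻¹ᵁ U) t ht
  choose f hf using fun k => he.exists_eq (appS (quo K) W₀ (bT b T hW₀ k))
  -- `e` is locally a value
  obtain ⟨W₁, hW₁, htW₁, s, hs⟩ := locally_surjective_of_epi (quo K) e t htW₀
  obtain ⟨c, rfl⟩ := (isLocBasis_bT hb T hW₀ W₁ hW₁).2 s
  have h1 : (∑ k, c k * resO T.left hW₁ (f k)) • res _ hW₁ e = (1 : Γ(T.left, W₁)) • res _ hW₁ e := by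
    rw [one_smul]
    refine Eq.trans ?_ hs
    rw [comb_apply, map_sum, Finset.sum_smul]
    refine Finset.sum_congr rfl fun k _ => ?_
    rw [map_smul, appS_res, show appS (quo K) W₀ (bT b T hW₀ k) = f k • e from hf k, res_smul,
      smul_smul]
  have h2 : ∑ k, c k * resO T.left hW₁ (f k) = 1 := (he W₁ hW₁).1 h1
  -- some `f i` is invertible at `t`
  obtain ⟨i, hi⟩ : ∃ i, t ∈ T.left.basicOpen (f i) := by
    by_contra hcon
    push Not at hcon
    have h3 : (T.left.presheaf.germ W₁ t htW₁).hom (∑ k, c k * resO T.left hW₁ (f k)) ∈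
        IsLocalRing.maximalIdeal (T.left.presheaf.stalk t) := by
      rw [map_sum]
      refine Ideal.sum_mem _ fun k _ => ?_
      rw [map_mul]
      refine Ideal.mul_mem_left _ _ ?_
      rw [show (T.left.presheaf.germ W₁ t htW₁).hom (resO T.left hW₁ (f k)) =
        T.left.presheaf.germ W₀ t htW₀ (f k) from
        TopCat.Presheaf.germ_res_apply T.left.presheaf (homOfLE hW₁) t htW₁ (f k)]
      intro hu
      exact hcon k ((Scheme.mem_basicOpen _ _ _ htW₀).2 hu)
    rw [h2, map_one] at h3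
    exact (IsLocalRing.maximalIdeal.isMaximal _).ne_top ((Ideal.eq_top_iff_one _).2 h3)
  refine ⟨T.left.basicOpen (f i), (T.left.basicOpen_le _).trans hW₀, i, ?_⟩
  have hgen : IsGen (M := cokernel K.arrow) (U := T.left.basicOpen (f i)) (appS (quo K) _
      (bT b T ((T.left.basicOpen_le (f i)).trans hW₀) i)) := by
    rw [← res_bT b T hW₀ (T.left.basicOpen_le (f i)) i, appS_res,
      show appS (quo K) W₀ (bT b T hW₀ i) = f i • e from hf i, res_smul]
    exact (isGen_res he (T.left.basicOpen_le (f i))).unit_smul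
      (isUnit_basicOpen (f i) _ le_rfl)
  obtain ⟨a, ha⟩ := exists_isNrm hgen
  exact ⟨a, hi, ha⟩

/-- If `β'_i` generates the quotient near `t'` after pull-back to `T'`, then `β_i` generates
the quotient near `g t'`. -/
lemma exists_isNrm_of_pull (hK : PicF.IsInvertible (cokernel K.arrow)) (g : T' ⟶ T)
    {W' : T'.left.Opens} {hW' : W' ≤ T'.hom ⁻¹ᵁ U} {i : Fin r} {a' : Fin r → Γ(T'.left, W')}
    (h : IsNrm b (pullK E g K) hW' i a') (t' : T'.left) (ht' : t' ∈ W') :
    ∃ (W : T.left.Opens) (hW : W ≤ T.hom ⁻¹ᵁ U) (a : Fin r → Γ(T.left, W)),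
      g.left t' ∈ W ∧ IsNrm b K hW i a := by
  have ht : T.hom (g.left t') ∈ U := by
    have h1 : T.hom (g.left t') = T'.hom t' := by
      rw [← Scheme.Hom.comp_apply, Over.w]
    rw [h1]
    exact hW' ht'
  obtain ⟨W₀, hW₀, e, htW₀, he⟩ := exists_gen_near hK (V := T.hom ⁻¹ᵁ U) (g.left t') ht
  obtain ⟨f, hf⟩ := he.exists_eq (appS (quo K) W₀ (bT b T hW₀ i))
  let V' : T'.left.Opens := W' ⊓ g.left ⁻¹ᵁ W₀
  have hV' : V' ≤ T'.hom ⁻¹ᵁ U := inf_le_left.trans hW'
  have eV : V' ≤ g.left ⁻¹ᵁ W₀ := inf_le_right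
  obtain ⟨ε, hε⟩ := quo_pullK (b := b) g K hW₀ hV' eV
  have h1 := (h.restrict (V := V') inf_le_left).gen
  rw [← Fdesc.LocGen.isGen_app_iff (M := cokernel (pullK E g K).arrow) ε.hom] at h1
  have h2 : ε.hom.app V' (appS (quo (pullK E g K)) V' (bT b T' (hV') i)) =
      g.left.appLE W₀ V' eV f • VarietyB.PullSec.sec g.left (cokernel K.arrow) eV e := by
    refine (hε i).trans ?_
    rw [show appS (quo K) W₀ (bT b T hW₀ i) = f • e from hf]
    exact VarietyB.PullSec.sec_smul g.left _ eV f e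
  have h3 : IsUnit (g.left.appLE W₀ V' eV f) := by
    refine (isGen_sec g.left eV he).isUnit_of_smul ?_
    rw [← h2]
    exact h1
  have h4 : g.left t' ∈ T.left.basicOpen f := by
    have h5 : t' ∈ T'.left.basicOpen (g.left.app W₀ f) := by
      refine mem_basicOpen_of_isUnit _ eV ?_ t' ⟨ht', htW₀⟩
      exact h3
    rw [← Scheme.preimage_basicOpen] at h5
    exact h5
  refine ⟨T.left.basicOpen f, (T.left.basicOpen_le f).trans hW₀, ?_⟩
  have hgen : IsGen (M := cokernel K.arrow) (U := T.left.basicOpen f) (appS (quo K) _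
      (bT b T ((T.left.basicOpen_le f).trans hW₀) i)) := by
    rw [← res_bT b T hW₀ (T.left.basicOpen_le f) i, appS_res,
      show appS (quo K) W₀ (bT b T hW₀ i) = f • e from hf, res_smul]
    exact (isGen_res he (T.left.basicOpen_le f)).unit_smul (isUnit_basicOpen f _ le_rfl)
  obtain ⟨a, ha⟩ := exists_isNrm hgen
  exact ⟨a, h4, ha⟩

end Points

end Groth.Agent.Krr.H490.NrmSub2
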