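import Groth.Agent.Krr.H490.PBFun
import Mathlib.AlgebraicGeometry.AffineSpace

/-!
# Affine charts of the functor of invertible quotients of a bundle
-/

set_option autoImplicit false
set_option backward.isDefEq.respectTransparency false

universe u

open CategoryTheory CategoryTheory.Limits AlgebraicGeometry Opposite TopologicalSpace

namespace Groth.Agent.Krr.H490.PBChart

open Groth.Agent.Sga67.Sec Groth.Agent.Sga67.LocBasis
open Groth.Agent.Krr.H490.NrmSub Groth.Agent.Krr.H490.NrmSub2 Groth.Agent.Krr.H490.PBFun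
open Groth.Agent.Fga.SubobjSec Groth.Agent.Fga.QuotPull
open Groth.Agent.Fga.SubPull (subPull pq cong CompatIso)
open Groth.Agent.Picfga.OverRep
open Groth.Agent.Fdesc.LocGen (IsGen)

section Hom

variable {Y : Scheme.{u}} {M N : Y.Modules} {κ : Type*} [Fintype κ] {b : κ → Sec M ⊤}

/-- A morphism is determined freely by its values on a global basis. -/
theorem exists_hom_of_locBasis (hb : IsLocBasis b) (n : κ → Sec N ⊤) :
    ∃ f : M ⟶ N, ∀ k, appS f ⊤ (b k) = n k := by
  obtain ⟨f, hf⟩ := exists_hom_of_basis' (B := fun U : Y.Opens => U)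
    (by rw [Set.range_id']; exact Opens.isBasis_iff_nbhd.mpr (fun {U x} hx => ⟨U, trivial, hx, le_rfl⟩))
    M N
    (fun V => (comb n (le_top : V ≤ ⊤)) ∘ₗ
      (LinearEquiv.ofBijective (comb b (le_top : V ≤ ⊤)) (hb V le_top)).symm.toLinearMap)
    (by
      intro U V h s
      obtain ⟨c, rfl⟩ := (hb U le_top).2 s
      rw [LinearMap.comp_apply, LinearMap.comp_apply, LinearEquiv.coe_coe, LinearEquiv.coe_coe,
        res_comb]
      have e1 : (LinearEquiv.ofBijective (comb b (le_top : U ≤ ⊤)) (hb U le_top)).symm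
          (comb b (le_top : U ≤ ⊤) c) = c := by
        rw [LinearEquiv.symm_apply_eq]; rfl
      have e2 : (LinearEquiv.ofBijective (comb b (le_top : V ≤ ⊤)) (hb V le_top)).symm
          (comb b (h.trans le_top) fun i => resO Y h (c i)) = fun i => resO Y h (c i) := by
        rw [LinearEquiv.symm_apply_eq]; rfl
      rw [e1, e2, res_comb])
  refine ⟨f, fun k => ?_⟩
  classical
  rw [hf, LinearMap.comp_apply, LinearEquiv.coe_coe]
  have e1 : (LinearEquiv.ofBijective (comb b (le_top : ⊤ ≤ (⊤ : Y.Opens))) (hb ⊤ le_top)).symm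
      (b k) = Pi.single k 1 := by
    rw [LinearEquiv.symm_apply_eq, LinearEquiv.ofBijective_apply, comb_apply,
      Finset.sum_eq_single k]
    · simp
    · intro j _ hj
      simp [hj]
    · simp
  rw [e1, comb_apply, Finset.sum_eq_single k]
  · simp
  · intro j _ hj
    simp [hj]
  · simp

end Hom

variable {X : Scheme.{u}} {E : X.Modules} {U : X.Opens} {r : ℕ} {b : Fin r → Sec E U}

/-- Every vector `a` of functions with `a_i = 1` defines an invertible quotient. -/
theorem exists_isNrm_of_coords (hb : IsLocBasis b) {T : Over X} (hT : ⊤ ≤ T.hom ⁻¹ᵁ U) (i : Fin r)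
    (a : Fin r → Γ(T.left, ⊤)) (ha : a i = 1) :
    ∃ x : IQSet E T, IsNrm b x.1 hT i a := by
  obtain ⟨f, hf⟩ := exists_hom_of_locBasis (isLocBasis_bT hb T hT)
    (N := Coh.structureModule T.left) (fun k => a k • one T.left ⊤)
  have hfi : appS f ⊤ (bT b T hT i) = one T.left ⊤ := by rw [hf, ha, one_smul]
  have : Epi f := epi_of_locally_surjective f (fun V s x hx => ⟨V, le_rfl, hx,
    toO s • res _ le_top (bT b T hT i), by
      rw [map_smul, appS_res, hfi, Groth.Agent.Sga67.LocBasis.res_one, toO_smul_one, res_self]⟩)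
  obtain ⟨e, he⟩ := exists_cokernel_iso f
  have key : ∀ (V : T.left.Opens) (s : Sec (ET E T) V),
      appS e.hom V (appS (cokernel.π (kernelSubobject f).arrow) V s) = appS f V s := by
    intro V s
    rw [← appS_comp, he]
  have hinj : Function.Injective (appS e.hom ⊤) := fun x y hxy => by
    have := congrArg (appS e.inv ⊤) hxy
    simpa using this
  refine ⟨⟨kernelSubobject f, ?_⟩, fun k => hinj ?_, ?_⟩
  · refine isInvertible_of_iso e.symm ?_
    rw [Fdesc.LocGen.isInvertible_iff]
    exact fun y => ⟨⊤, Fdesc.LocGen.one ⊤, trivial, Fdesc.LocGen.isGen_one ⊤⟩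
  · rw [map_smul, key, key, hfi, hf]
  · rw [← Fdesc.LocGen.isGen_app_iff (M := cokernel (kernelSubobject f).arrow) e.hom]
    have h1 : e.hom.app ⊤ (appS (quo (kernelSubobject f)) ⊤ (bT b T hT i)) =
        Fdesc.LocGen.one ⊤ := (key ⊤ _).trans hfi
    rw [h1]
    exact Fdesc.LocGen.isGen_one ⊤

/-- The coordinate index set of the chart `i`. -/
abbrev Idx (i : Fin r) : Type u := ULift.{u} {k : Fin r // k ≠ i}

variable (U) in
/-- The chart. -/
noncomputable abbrev CO (i : Fin r) : Over X :=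
  Over.mk ((AffineSpace (Idx.{u} i) (U : Scheme.{u}) ↘ (U : Scheme.{u})) ≫ U.ι)

variable (U) in
lemma top_le_CO (i : Fin r) : ⊤ ≤ (CO U i).hom ⁻¹ᵁ U := by
  intro t _
  exact ((AffineSpace (Idx.{u} i) (U : Scheme.{u}) ↘ (U : Scheme.{u})) t).2

/-- Extension of a vector by `1` in position `i`. -/
noncomputable def ext1 {Y : Scheme.{u}} {W : Y.Opens} (i : Fin r) (v : Idx.{u} i → Γ(Y, W)) :
    Fin r → Γ(Y, W) := fun k => if h : k = i then 1 else v ⟨⟨k, h⟩⟩

lemma ext1_self {Y : Scheme.{u}} {W : Y.Opens} (i : Fin r) (v : Idx.{u} i → Γ(Y, W)) :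
    ext1 i v i = 1 := dif_pos rfl

lemma ext1_of_ne {Y : Scheme.{u}} {W : Y.Opens} (i : Fin r) (v : Idx.{u} i → Γ(Y, W))
    (k : Idx.{u} i) : ext1 i v k.down.1 = v k := dif_neg k.down.2

variable (U) in
/-- The universal coordinates. -/
noncomputable abbrev uc (i : Fin r) : Fin r → Γ((CO U i).left, ⊤) :=
  ext1 i (fun k => AffineSpace.coord (U : Scheme.{u}) k)

/-- The universal element on the chart. -/
noncomputable def ξ (hb : IsLocBasis b) (i : Fin r) : IQSet E (CO U i) :=
  (exists_isNrm_of_coords hb (top_le_CO U i) i (uc U i) (ext1_self i _)).choose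

lemma ξ_spec (hb : IsLocBasis b) (i : Fin r) : IsNrm b (ξ hb i).1 (top_le_CO U i) i (uc U i) :=
  (exists_isNrm_of_coords hb (top_le_CO U i) i (uc U i) (ext1_self i _)).choose_spec

lemma top_le_of_hom {T : Over X} {i : Fin r} (h : T ⟶ CO U i) : ⊤ ≤ T.hom ⁻¹ᵁ U := by
  intro t _
  have h1 : T.hom t = (CO U i).hom (h.left t) := by
    rw [← Scheme.Hom.comp_apply, Over.w]
  change T.hom t ∈ U
  rw [h1]
  exact top_le_CO U i (Set.mem_univ (h.left t))

lemma isNrm_pull_ξ (hb : IsLocBasis b) {T : Over X} {i : Fin r} (h : T ⟶ CO U i) :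
    IsNrm b (pullK E h (ξ hb i).1) (top_le_of_hom h) i
      (fun k => h.left.appTop (uc U i k)) := by
  have := (ξ_spec hb i).pull h (W' := ⊤) (top_le_of_hom h) le_top
  convert this using 2 with k
  simp [Scheme.Hom.appLE]

/-- A morphism to the chart with given coordinates. -/
theorem exists_hom_chart (hb : IsLocBasis b) {T : Over X} (hT : ⊤ ≤ T.hom ⁻¹ᵁ U) (i : Fin r)
    (a : Fin r → Γ(T.left, ⊤)) (ha : a i = 1) :
    ∃ h : T ⟶ CO U i, IsNrm b (pullK E h (ξ hb i).1) hT i a := by
  let g : T.left ⟶ (U : Scheme.{u}) := IsOpenImmersion.lift U.ι T.hom (by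
    rintro _ ⟨t, rfl⟩
    have : T.hom t ∈ U := hT (Set.mem_univ t)
    simpa using this)
  have hg : g ≫ U.ι = T.hom := IsOpenImmersion.lift_fac _ _ _
  let h : T ⟶ CO U i := Over.homMk (AffineSpace.homOfVector g (fun k => a k.down.1)) (by
    change AffineSpace.homOfVector g _ ≫ _ ≫ U.ι = T.hom
    rw [AffineSpace.homOfVector_over_assoc, hg])
  refine ⟨h, ?_⟩
  convert isNrm_pull_ξ hb h using 2 with k
  by_cases hk : k = i
  · subst hk
    rw [uc, ext1_self, map_one, ha]
  · have h1 := ext1_of_ne i (fun k => AffineSpace.coord (U : Scheme.{u}) k) ⟨⟨k, hk⟩⟩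
    change a k = h.left.appTop (ext1 i (fun k => AffineSpace.coord (U : Scheme.{u}) k) k)
    rw [show ext1 i (fun k => AffineSpace.coord (U : Scheme.{u}) k) k = _ from h1]
    exact (AffineSpace.homOfVector_appTop_coord g (fun k : Idx.{u} i => a k.down.1) ⟨⟨k, hk⟩⟩).symm

lemma hom_chart_ext (hb : IsLocBasis b) {T : Over X} {i : Fin r} (h h' : T ⟶ CO U i)
    (e : pullK E h (ξ hb i).1 = pullK E h' (ξ hb i).1) : h = h' := by
  have h1 := isNrm_pull_ξ hb h
  have h2 := isNrm_pull_ξ hb h'
  rw [← e] at h2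
  have h3 := h1.unique h2
  ext1
  apply AffineSpace.hom_ext
  · rw [← cancel_mono U.ι, Category.assoc, Category.assoc]
    exact (Over.w h).trans (Over.w h').symm
  · intro k
    have h4 := congrFun h3 k.down.1
    have h5 := ext1_of_ne i (fun k => AffineSpace.coord (U : Scheme.{u}) k) k
    simp only [uc, h5] at h4
    exact h4

end Groth.Agent.Krr.H490.PBChart
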