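import Groth.Agent.Krr.H490.NrmSub2

/-!
# The functor of invertible quotients of a bundle is a Zariski sheaf

`IQ E : (Over X)ᵒᵖ ⥤ Type (u + 1)`, `T ↦ {K ⊆ E_T | E_T / K invertible}`.
-/

set_option autoImplicit false
set_option backward.isDefEq.respectTransparency false

universe u

open CategoryTheory CategoryTheory.Limits AlgebraicGeometry Opposite TopologicalSpace

namespace Groth.Agent.Krr.H490.PBFun

open Groth.Agent.Krr.H490.NrmSub Groth.Agent.Krr.H490.NrmSub2
open Groth.Agent.Fga.SubobjSec Groth.Agent.Fga.QuotPull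
open Groth.Agent.Fga.SubPull (subPull pq cong CompatIso exists_glue_sub)
open Groth.Agent.Picfga.OverRep

section Inv

open Groth.Agent.Fdesc.LocGen

variable {Y Y' : Scheme.{u}}

lemma isInvertible_of_iso {M N : Y.Modules} (e : M ≅ N) (h : PicF.IsInvertible M) :
    PicF.IsInvertible N := by
  rw [isInvertible_iff] at h ⊢
  intro y
  obtain ⟨U, s, hy, hs⟩ := h y
  exact ⟨U, e.hom.app U s, hy, hs.app e.hom⟩

lemma isInvertible_pullback (g : Y' ⟶ Y) {M : Y.Modules} (h : PicF.IsInvertible M) :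
    PicF.IsInvertible ((Scheme.Modules.pullback g).obj M) := by
  rw [isInvertible_iff] at h ⊢
  intro y
  obtain ⟨U, s, hy, hs⟩ := h (g y)
  exact ⟨g ⁻¹ᵁ U, pullSec g s, hy, hs.pullSec g⟩

/-- Invertibility is local. -/
lemma isInvertible_of_cover {ι : Type*} {Z : ι → Scheme.{u}} (p : ∀ i, Z i ⟶ Y)
    [∀ i, IsOpenImmersion (p i)] (hp : ∀ y : Y, ∃ i, ∃ z : Z i, p i z = y) {M : Y.Modules}
    (h : ∀ i, PicF.IsInvertible ((Scheme.Modules.pullback (p i)).obj M)) :
    PicF.IsInvertible M := by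
  rw [isInvertible_iff]
  intro y
  obtain ⟨i, z, rfl⟩ := hp y
  obtain ⟨V, e', hz, he'⟩ := (isInvertible_iff _).1 (h i) z
  have e1 : V ≤ p i ⁻¹ᵁ (p i ''ᵁ V) := (Scheme.Hom.preimage_image_eq _ _).ge
  obtain ⟨e, rfl⟩ := (Groth.Agent.Fga.SecComp.sec_bijective_of_isOpenImmersion (p i) M e1
    (U := p i ''ᵁ V) le_rfl).2 e'
  refine ⟨p i ''ᵁ V, e, ⟨z, hz, rfl⟩, ?_⟩
  rw [← isGen_pullSec_openImmersion_iff (p i) e (by
    rintro _ ⟨v, -, rfl⟩
    exact ⟨v, rfl⟩)]
  have e2 : V = p i ⁻¹ᵁ (p i ''ᵁ V) := (Scheme.Hom.preimage_image_eq _ _).symm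
  rw [← isGen_congr e2]
  exact he'

end Inv

variable {X : Scheme.{u}} (E : X.Modules)

/-- Invertible quotients of `E_T`. -/
abbrev IQSet (T : Over X) : Type (u + 1) :=
  {K : Subobject (ET E T) // PicF.IsInvertible (cokernel K.arrow)}

variable {E} in
lemma isInvertible_pullK {T T' : Over X} (g : T' ⟶ T) {K : Subobject (ET E T)}
    (hK : PicF.IsInvertible (cokernel K.arrow)) :
    PicF.IsInvertible (cokernel (pullK E g K).arrow) := by
  obtain ⟨e, -⟩ := exists_cokernel_pullK E g K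
  exact isInvertible_of_iso e.symm (isInvertible_pullback _ hK)

/-- The pullback of an invertible quotient. -/
noncomputable def pullIQ {T T' : Over X} (g : T' ⟶ T) (x : IQSet E T) : IQSet E T' :=
  ⟨pullK E g x.1, isInvertible_pullK g x.2⟩

lemma pullIQ_id (T : Over X) (x : IQSet E T) : pullIQ E (𝟙 T) x = x :=
  Subtype.ext (pullK_id E T x.1)

lemma pullIQ_comp {T T' T'' : Over X} (h : T'' ⟶ T') (g : T' ⟶ T) (x : IQSet E T) :
    pullIQ E (h ≫ g) x = pullIQ E h (pullIQ E g x) :=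
  Subtype.ext (pullK_comp E h g x.1)

/-- The functor of invertible quotients of `E`. -/
noncomputable def IQ : (Over X)ᵒᵖ ⥤ Type (u + 1) where
  obj T := IQSet E T.unop
  map g := ↾(fun x => pullIQ E g.unop x)
  map_id T := ConcreteCategory.hom_ext _ _ fun x => pullIQ_id E T.unop x
  map_comp a b := ConcreteCategory.hom_ext _ _ fun x => pullIQ_comp E b.unop a.unop x

lemma IQ_map_val {T T' : Over X} (g : T' ⟶ T) (x : IQSet E T) :
    ((IQ E).map g.op x : IQSet E T').1 = pullK E g x.1 := rfl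

lemma exists_overlap {T V V' : Over X} (j : V ⟶ T) (j' : V' ⟶ T) [IsOpenImmersion j.left]
    [IsOpenImmersion j'.left] :
    ∃ (W : Over X) (a : W ⟶ V) (b : W ⟶ V'), a ≫ j = b ≫ j' ∧ IsOpenImmersion a.left ∧
      ∀ (y : V.left) (y' : V'.left), j.left y = j'.left y' → ∃ z, a.left z = y ∧ b.left z = y' := by
  let W : Over X := Over.mk (Limits.pullback.fst j.left j'.left ≫ V.hom)
  let a : W ⟶ V := Over.homMk (Limits.pullback.fst j.left j'.left) rfl
  let b : W ⟶ V' := Over.homMk (Limits.pullback.snd j.left j'.left) (by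
    change Limits.pullback.snd j.left j'.left ≫ V'.hom = Limits.pullback.fst j.left j'.left ≫ V.hom
    rw [← Over.w j, ← Over.w j', Limits.pullback.condition_assoc])
  have hab : a ≫ j = b ≫ j' := by ext; exact Limits.pullback.condition
  refine ⟨W, a, b, hab, inferInstanceAs (IsOpenImmersion (Limits.pullback.fst j.left j'.left)),
    fun y y' hy => ?_⟩
  exact Scheme.Pullback.exists_preimage_pullback (f := j.left) (g := j'.left) _ _ hy

/-- Submodules of `E_T` glue along open covers of `T`. -/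
theorem exists_glue_K {T : Over X} (𝒰 : Cov T) (x : ∀ i : 𝒰.ι, Subobject (ET E (𝒰.V i)))
    (hx : ∀ (i k : 𝒰.ι) (W : Over X) (a : W ⟶ 𝒰.V i) (b : W ⟶ 𝒰.V k), a ≫ 𝒰.j i = b ≫ 𝒰.j k →
      pullK E a (x i) = pullK E b (x k)) :
    ∃! K : Subobject (ET E T), ∀ i, pullK E (𝒰.j i) K = x i := by
  refine exists_glue_sub (fun i => (𝒰.j i).left) (fun i => eti E (𝒰.j i)) x 𝒰.covers
    (fun i k => ?_)
  obtain ⟨W, a, b, hab, ha, hz⟩ := exists_overlap (𝒰.j i) (𝒰.j k)
  refine ⟨W.left, a.left, b.left, ha, (a ≫ 𝒰.j i).left, rfl, ?_, ET E W, eti E a, eti E b,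
    eti E (a ≫ 𝒰.j i), hz, compatIso_eti E a (𝒰.j i), ?_, hx i k W a b hab⟩
  · rw [hab]; rfl
  · exact tri_comp _ _ _ _ _ _ _ _ _ _ E

/-- The functor of invertible quotients is a Zariski sheaf. -/
theorem isZarSheaf_IQ : IsZarSheaf (IQ E) := by
  intro T 𝒰 x hx
  obtain ⟨K, hK, hK'⟩ := exists_glue_K E 𝒰 (fun i => (x i : IQSet E (𝒰.V i)).1)
    (fun i k W a b hab => congrArg Subtype.val (hx i k W a b hab))
  have hKi : PicF.IsInvertible (cokernel K.arrow) := by
    refine isInvertible_of_cover (fun i => (𝒰.j i).left) 𝒰.covers fun i => ?_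
    obtain ⟨e, -⟩ := exists_cokernel_pullK E (𝒰.j i) K
    rw [hK i] at e
    exact isInvertible_of_iso e (x i : IQSet E (𝒰.V i)).2
  refine ⟨⟨K, hKi⟩, fun i => Subtype.ext (hK i), fun y hy => Subtype.ext ?_⟩
  exact hK' y.1 fun i => congrArg Subtype.val (hy i)

end Groth.Agent.Krr.H490.PBFun
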